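import Groth.Agent.LoccohB.RAdjFin
import Groth.Prelude.Def_Disc

/-!
# `H⁰` of the right adjoint of restriction of scalars: `H⁰(R(A[0])) = Hom_A(B, A)`, `B`-linearly;
`H⁰` of a flat derived base change.
-/

set_option autoImplicit false
universe u

open CategoryTheory CategoryTheory.Limits
open scoped TensorProduct

attribute [local instance] HasDerivedCategory.standard

namespace K576.CoextH0

open DerivedCategory Groth.Agent.LoccohB Groth.Agent.LoccohB.DBase Groth.Agent.LoccohB.RAdjFin
  Groth.Agent.LoccohB.FlatLBC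

section Coext

variable (A B : Type u) [CommRing A] [CommRing B] [Algebra A B]

/-- `B` as an `A`-module, by restriction of scalars. -/
noncomputable abbrev resB : ModuleCat.{u} A :=
  (ModuleCat.restrictScalars.{u} (algebraMap A B)).obj (ModuleCat.of B B)

/-- Multiplication by `b` on `B`. -/
noncomputable abbrev mulB (b : B) : ModuleCat.of B B ⟶ ModuleCat.of B B := b • 𝟙 _

/-- `Hom_A(B, A)`. -/
noncomputable def homOmega : (resB A B ⟶ ModuleCat.of A A) ≃+ Disc.Omega A B where
  toFun f := ⟨{ toFun := fun b => f.hom (b : resB A B)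
                map_add' := fun x y => f.hom.map_add _ _
                map_smul' := fun a b => by
                  rw [Algebra.smul_def]
                  exact f.hom.map_smul a (b : resB A B) }⟩
  invFun φ := ModuleCat.ofHom (X := resB A B) (Y := A)
    { toFun := fun b => φ.toLinearMap (show B from b)
      map_add' := fun x y => φ.toLinearMap.map_add _ _
      map_smul' := fun a b => by
        have := φ.toLinearMap.map_smul a (show B from b)
        rw [Algebra.smul_def] at this
        exact this }
  left_inv f := rfl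
  right_inv φ := rfl
  map_add' f g := rfl

theorem homOmega_smul (b : B) (f : resB A B ⟶ ModuleCat.of A A) :
    homOmega A B ((ModuleCat.restrictScalars.{u} (algebraMap A B)).map (mulB B b) ≫ f) =
      b • homOmega A B f := rfl

/-- The single functor on homs. -/
noncomputable def sgHom (X Y : ModuleCat.{u} A) :
    (X ⟶ Y) ≃+ ((singleFunctor (ModuleCat.{u} A) 0).obj X ⟶
      (singleFunctor (ModuleCat.{u} A) 0).obj Y) :=
  AddEquiv.ofBijective (singleFunctor (ModuleCat.{u} A) 0).mapAddHom
    ⟨(singleFunctor (ModuleCat.{u} A) 0).map_injective,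
      (singleFunctor (ModuleCat.{u} A) 0).map_surjective⟩

variable {A B} {R : Dual.D A ⥤ Dual.D B} (adj : DRing.restrictD (algebraMap A B) ⊣ R)

/-- The additive equivalence `Hom_A(B, A) = H⁰(R (A[0]))`. -/
noncomputable def omegaHDAdd : Disc.Omega A B ≃+ Dual.HD B (R.obj (Dual.inD A A)) 0 :=
  (homOmega A B).symm.trans <| (sgHom A _ _).trans <|
    (AddEquiv.mk' (Iso.homCongr (restrictDSingle (algebraMap A B) 0 (ModuleCat.of B B))
      (Iso.refl (Dual.inD A A))).symm (fun f g => by
        simp [Iso.homCongr])).trans <|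
    (adjAddEquiv adj (sg B 0 B) (Dual.inD A A)).symm.trans
      (homEquivHD 0 (R.obj (Dual.inD A A))).toAddEquiv

theorem omegaHDAdd_smul (b : B) (φ : Disc.Omega A B) :
    omegaHDAdd adj (b • φ) = b • omegaHDAdd adj φ := by
  obtain ⟨f, rfl⟩ := (homOmega A B).surjective φ
  rw [← homOmega_smul]
  simp only [omegaHDAdd, AddEquiv.trans_apply, AddEquiv.symm_apply_apply]
  change homEquivHD 0 (R.obj (Dual.inD A A)) _ = b • homEquivHD 0 (R.obj (Dual.inD A A)) _
  rw [← map_smul]
  congr 1
  change (adj.homEquiv _ _) ((restrictDSingle (algebraMap A B) 0 (ModuleCat.of B B)).hom ≫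
      (singleFunctor (ModuleCat.{u} A) 0).map
        ((ModuleCat.restrictScalars.{u} (algebraMap A B)).map (mulB B b) ≫ f) ≫ 𝟙 _) =
    b • (adj.homEquiv _ _) ((restrictDSingle (algebraMap A B) 0 (ModuleCat.of B B)).hom ≫
      (singleFunctor (ModuleCat.{u} A) 0).map f ≫ 𝟙 _)
  have h1 : (restrictDSingle (algebraMap A B) 0 (ModuleCat.of B B)).hom ≫
      (singleFunctor (ModuleCat.{u} A) 0).map
        ((ModuleCat.restrictScalars.{u} (algebraMap A B)).map (mulB B b)) =
      (DRing.restrictD (algebraMap A B)).map ((singleFunctor (ModuleCat.{u} B) 0).map (mulB B b)) ≫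
        (restrictDSingle (algebraMap A B) 0 (ModuleCat.of B B)).hom :=
    (((ModuleCat.restrictScalars.{u} (algebraMap A B)).mapDerivedCategorySingleFunctor
      0).hom.naturality (mulB B b)).symm
  rw [Functor.map_comp, Category.assoc, ← Category.assoc, h1, Category.assoc,
    Adjunction.homEquiv_naturality_left]
  have h2 : (singleFunctor (ModuleCat.{u} B) 0).map (mulB B b) = b • 𝟙 (sg B 0 B) := by
    rw [Functor.map_smul, CategoryTheory.Functor.map_id]
  rw [h2, Linear.smul_comp, Category.id_comp]

/-- `Hom_A(B, A) = H⁰(R (A[0]))`, `B`-linearly. -/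
noncomputable def omegaHD : Disc.Omega A B ≃ₗ[B] Dual.HD B (R.obj (Dual.inD A A)) 0 :=
  { omegaHDAdd adj with map_smul' := omegaHDAdd_smul adj }

end Coext

section Flat

variable (A B : Type u) [CommRing A] [CommRing B] [Algebra A B] [Module.Flat A B]

/-- Cohomology of a flat base change. -/
noncomputable def hdFlat [DRing.HasLBaseChange (algebraMap A B)] (K : Dual.D A) (i : ℤ) :
    Dual.HD B ((DRing.LBaseChange (algebraMap A B)).obj K) i ≃ₗ[B] B ⊗[A] Dual.HD A K i :=
  ((homologyFunctor (ModuleCat.{u} B) i).mapIso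
      ((LBaseChangeIso (algebraMap A B) (RingHom.flat_algebraMap_iff.2 inferInstance)).app K) ≪≫
    (flatBCHomology (algebraMap A B)
      (RingHom.flat_algebraMap_iff.2 inferInstance) i).app K).toLinearEquiv ≪≫ₗ
    (extEquiv A B ((homologyFunctor (ModuleCat.{u} A) i).obj K)).symm

omit [CommRing B] [Algebra A B] [Module.Flat A B] in
theorem subsingleton_HD_inD (i : ℤ) (hi : i < 0) : Subsingleton (Dual.HD A (Dual.inD A A) i) := by
  have : (Dual.inD A A).IsGE 0 := inferInstance
  exact (HomBC.isZero_homology_iff _ _).1 ((isGE_iff _ _).1 this i hi)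

end Flat

end K576.CoextH0
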