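import Mathlib.RingTheory.Kaehler.Polynomial
import Mathlib.RingTheory.Kaehler.Basic
import Mathlib.Algebra.MvPolynomial.PDeriv
import Mathlib.LinearAlgebra.TensorProduct.Basis
import Groth.Prelude.Def_Fitting
import Groth.Agent.Flat2C.FittingZero

/-!
# The zeroth Fitting ideal of the Kähler differentials of a global complete intersection
-/

set_option autoImplicit false
universe u
open scoped TensorProduct KaehlerDifferential
open KaehlerDifferential

namespace K576.FittJac

open Groth.Agent.Flat2C.FittingZero

/-- `Fitt.ideal _ _ 0` is the ideal of determinants of relations of any generating family. -/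
theorem fitt_zero_eq_relDet (R : Type u) [CommRing R] (M : Type u) [AddCommGroup M] [Module R M]
    {ι : Type*} [Fintype ι] [DecidableEq ι] (x : ι → M)
    (hx : Submodule.span R (Set.range x) = ⊤) : Fitt.ideal R M 0 = relDet (R := R) x := by
  rw [← fittingZero_eq_relDet x hx]
  unfold Fitt.ideal FlatCA.fittingZero
  congr 1
  ext d
  simp

theorem relDet_of_rel_span {R : Type u} [CommRing R] {M : Type u} [AddCommGroup M] [Module R M]
    {n : ℕ} (x : Fin n → M) (J : Matrix (Fin n) (Fin n) R)
    (hJ : Submodule.span R (Set.range J) = rel (R := R) x) :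
    relDet (R := R) x = Ideal.span {J.det} := by
  rw [relDet_eq_span x _ hJ]
  apply le_antisymm
  · refine Ideal.span_le.mpr ?_
    rintro _ ⟨u, hu, rfl⟩
    choose σ hσ using hu
    have : u = J.submatrix σ id := by
      ext i j
      rw [← hσ i]
      rfl
    rw [this]
    by_cases hσi : Function.Injective σ
    · let e : Equiv.Perm (Fin n) := Equiv.ofBijective σ (Finite.injective_iff_bijective.1 hσi)
      have h2 : J.submatrix σ id = J.submatrix e id := rfl
      rw [h2, Matrix.det_permute]
      exact Ideal.mul_mem_left _ _ (Ideal.mem_span_singleton_self _)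
    · rw [Function.not_injective_iff] at hσi
      obtain ⟨a, b, hab, hne⟩ := hσi
      have h0 : (J.submatrix σ id).det = 0 := by
        refine Matrix.det_zero_of_row_eq (i := a) (j := b) hne ?_
        ext j
        rw [Matrix.submatrix_apply, Matrix.submatrix_apply, hab]
      rw [SetLike.mem_coe, h0]
      exact Ideal.zero_mem _
  · refine Ideal.span_le.mpr ?_
    rintro _ rfl
    exact Ideal.subset_span ⟨J, fun i => ⟨i, rfl⟩, rfl⟩

section
variable (A B : Type u) [CommRing A] [CommRing B] [Algebra A B] (n : ℕ)
  [Algebra (MvPolynomial (Fin n) A) B] [IsScalarTower A (MvPolynomial (Fin n) A) B]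
  (f : Fin n → MvPolynomial (Fin n) A)

/-- The Jacobian matrix over `B`. -/
noncomputable def jac : Matrix (Fin n) (Fin n) B :=
  Matrix.of fun i j => algebraMap (MvPolynomial (Fin n) A) B (MvPolynomial.pderiv j (f i))

omit [Algebra A B] [IsScalarTower A (MvPolynomial (Fin n) A) B] in
theorem one_tmul_D (g : MvPolynomial (Fin n) A) :
    (1 : B) ⊗ₜ[MvPolynomial (Fin n) A] D A (MvPolynomial (Fin n) A) g =
      ∑ j, algebraMap (MvPolynomial (Fin n) A) B (MvPolynomial.pderiv j g) •
        ((1 : B) ⊗ₜ[MvPolynomial (Fin n) A] D A (MvPolynomial (Fin n) A) (MvPolynomial.X j)) := by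
  have h := (mvPolynomialBasis A (Fin n)).sum_repr (D A (MvPolynomial (Fin n) A) g)
  conv_lhs => rw [← h]
  rw [TensorProduct.tmul_sum]
  refine Finset.sum_congr rfl fun j _ => ?_
  rw [mvPolynomialBasis_repr_apply, mvPolynomialBasis_apply, TensorProduct.tmul_smul,
    algebraMap_smul]

variable (hs : Function.Surjective (algebraMap (MvPolynomial (Fin n) A) B))
  (hk : RingHom.ker (algebraMap (MvPolynomial (Fin n) A) B) = Ideal.span (Set.range f))

/-- the generators of the Kähler differentials. -/
noncomputable def gen (j : Fin n) : Ω[B⁄A] :=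
  D A B (algebraMap (MvPolynomial (Fin n) A) B (MvPolynomial.X j))

omit [IsScalarTower A (MvPolynomial (Fin n) A) B] in
theorem mapBaseChange_gen [IsScalarTower A (MvPolynomial (Fin n) A) B] (j : Fin n) :
    mapBaseChange A (MvPolynomial (Fin n) A) B
      ((1 : B) ⊗ₜ[MvPolynomial (Fin n) A] D A (MvPolynomial (Fin n) A) (MvPolynomial.X j)) =
        gen A B n j := by
  rw [mapBaseChange_tmul, one_smul, map_D]
  rfl

include hs in
theorem span_gen : Submodule.span B (Set.range (gen A B n)) = ⊤ := by
  rw [eq_top_iff]
  rintro w -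
  obtain ⟨t, rfl⟩ := mapBaseChange_surjective A (MvPolynomial (Fin n) A) B hs w
  let b := (mvPolynomialBasis A (Fin n)).baseChange B
  rw [← b.sum_repr t, map_sum]
  refine Submodule.sum_mem _ fun j _ => ?_
  rw [map_smul]
  refine Submodule.smul_mem _ _ (Submodule.subset_span ⟨j, ?_⟩)
  rw [Module.Basis.baseChange_apply, mvPolynomialBasis_apply, mapBaseChange_gen]

include hs hk in
theorem rel_gen : Submodule.span B (Set.range (jac A B n f)) = rel (R := B) (gen A B n) := by
  let P := MvPolynomial (Fin n) A
  apply le_antisymm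
  · refine Submodule.span_le.mpr ?_
    rintro _ ⟨i, rfl⟩
    rw [SetLike.mem_coe, mem_rel]
    have h1 : ∑ j, (jac A B n f i j) • gen A B n j =
        mapBaseChange A P B ((1 : B) ⊗ₜ[P] D A P (f i)) := by
      rw [one_tmul_D, map_sum]
      refine Finset.sum_congr rfl fun j _ => ?_
      rw [map_smul, mapBaseChange_gen]
      rfl
    rw [h1, mapBaseChange_tmul, one_smul, map_D]
    have : algebraMap P B (f i) = 0 := by
      rw [← RingHom.mem_ker, hk]
      exact Ideal.subset_span ⟨i, rfl⟩
    rw [this, map_zero]
  · intro c hc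
    rw [mem_rel] at hc
    let b := (mvPolynomialBasis A (Fin n)).baseChange B
    have hbj : ∀ j, b j = (1 : B) ⊗ₜ[P] D A P (MvPolynomial.X j) := fun j => by
      rw [Module.Basis.baseChange_apply, mvPolynomialBasis_apply]
    have h1 : mapBaseChange A P B (∑ j, c j • b j) = 0 := by
      rw [← hc, map_sum]
      refine Finset.sum_congr rfl fun j _ => ?_
      rw [map_smul, hbj, mapBaseChange_gen]
    rw [exact_kerCotangentToTensor_mapBaseChange A P B hs] at h1
    obtain ⟨g, hg⟩ := h1
    obtain ⟨⟨g, hgk⟩, rfl⟩ := Ideal.toCotangent_surjective _ g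
    rw [kerCotangentToTensor_toCotangent] at hg
    change (1 : B) ⊗ₜ[P] D A P g = _ at hg
    rw [hk] at hgk
    obtain ⟨a, ha⟩ := (Submodule.mem_span_range_iff_exists_fun P).1 hgk
    have hfk : ∀ i, algebraMap P B (f i) = 0 := fun i => by
      rw [← RingHom.mem_ker, hk]
      exact Ideal.subset_span ⟨i, rfl⟩
    have h2 : (1 : B) ⊗ₜ[P] D A P g = ∑ j, (∑ i, algebraMap P B (a i) * jac A B n f i j) • b j := by
      rw [← ha, map_sum, TensorProduct.tmul_sum]
      have h3 : ∀ i, (1 : B) ⊗ₜ[P] D A P (a i • f i) =
          ∑ j, (algebraMap P B (a i) * jac A B n f i j) • b j := by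
        intro i
        rw [smul_eq_mul, Derivation.leibniz, TensorProduct.tmul_add, TensorProduct.tmul_smul,
          TensorProduct.tmul_smul, one_tmul_D, ← algebraMap_smul B (f i), hfk, zero_smul, add_zero,
          ← algebraMap_smul B (a i), Finset.smul_sum]
        refine Finset.sum_congr rfl fun j _ => ?_
        rw [hbj, mul_smul]
        rfl
      simp only [h3]
      rw [Finset.sum_comm]
      refine Finset.sum_congr rfl fun j _ => ?_
      rw [Finset.sum_smul]
    rw [h2] at hg
    have h4 : c = fun j => ∑ i, algebraMap P B (a i) * jac A B n f i j := by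
      funext j
      have := congrArg (fun t => b.repr t j) hg
      simp only [map_sum, map_smul, Module.Basis.repr_self, Finsupp.smul_single, smul_eq_mul, mul_one,
        Finsupp.coe_finsetSum, Finset.sum_apply, Finsupp.single_apply, Finset.sum_ite_eq',
        Finset.mem_univ, if_true] at this
      exact this.symm
    have h5 : c = ∑ i, algebraMap P B (a i) • jac A B n f i := by
      rw [h4]
      funext j
      rw [Finset.sum_apply]
      rfl
    rw [h5]
    exact Submodule.sum_mem _ fun i _ => Submodule.smul_mem _ _ (Submodule.subset_span ⟨i, rfl⟩)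

include hs hk in
/-- The Kähler different of a global complete intersection is generated by the Jacobian determinant. -/
theorem fitt_zero_kaehler : Fitt.ideal B Ω[B⁄A] 0 = Ideal.span {(jac A B n f).det} := by
  rw [fitt_zero_eq_relDet B Ω[B⁄A] (gen A B n) (span_gen A B n hs),
    relDet_of_rel_span _ _ (rel_gen A B n f hs hk)]

end

end K576.FittJac
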