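import Groth.Agent.Disc.K576.TateDual
import Groth.Agent.Disc.K576.FittJac
import Groth.Agent.S2220
import Groth.Agent.S2221
import Groth.Agent.S2237
import Mathlib.RingTheory.Etale.Kaehler

/-!
# The Noether different of a flat quasi-finite local complete intersection is the Kähler different
-/

set_option autoImplicit false
universe u
open scoped TensorProduct KaehlerDifferential
open AlgebraicGeometry

namespace K576.DiffFitt

open Groth.Agent Groth.Agent.Models2 Groth.Agent.Models2.DiscDual

/-- Two ideals are equal if they are so locally on basic opens (any model of the localizations). -/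
theorem ideal_eq_of_away {B : Type u} [CommRing B] (I J : Ideal B)
    (h : ∀ (q : Ideal B) [q.IsPrime], ∃ g : B, g ∉ q ∧ ∃ (C : Type u) (_ : CommRing C)
      (_ : Algebra B C) (_ : IsLocalization.Away g C),
        I.map (algebraMap B C) = J.map (algebraMap B C)) : I = J := by
  have key : ∀ (I J : Ideal B), (∀ (q : Ideal B) [q.IsPrime], ∃ g : B, g ∉ q ∧ ∃ (C : Type u)
      (_ : CommRing C) (_ : Algebra B C) (_ : IsLocalization.Away g C),
        I.map (algebraMap B C) = J.map (algebraMap B C)) → I ≤ J := by
    intro I J h x hx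
    by_contra hxJ
    have hne : (J.colon {x} : Ideal B) ≠ ⊤ := by
      intro htop
      have : (1 : B) ∈ J.colon {x} := by rw [htop]; trivial
      rw [Submodule.mem_colon_singleton, one_smul] at this
      exact hxJ this
    obtain ⟨m, hm, hle⟩ := Ideal.exists_le_maximal _ hne
    obtain ⟨g, hg, C, _, _, _, hC⟩ := h m
    have h1 : algebraMap B C x ∈ J.map (algebraMap B C) := by
      rw [← hC]
      exact Ideal.mem_map_of_mem _ hx
    rw [IsLocalization.algebraMap_mem_map_algebraMap_iff (Submonoid.powers g)] at h1
    obtain ⟨_, ⟨k, rfl⟩, hk⟩ := h1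
    have h2 : g ^ k ∈ J.colon {x} := by
      rw [Submodule.mem_colon_singleton]
      exact hk
    exact hg (hm.isPrime.mem_of_pow_mem k (hle h2))
  exact le_antisymm (key I J h) (key J I fun q _ => by
    obtain ⟨g, hg, C, i1, i2, i3, hC⟩ := h q
    exact ⟨g, hg, C, i1, i2, i3, hC.symm⟩)

section Fitt

open Groth.Agent.Flat2C.FittingZero

theorem fitt_zero_eq (R : Type u) [CommRing R] (M : Type u) [AddCommGroup M] [Module R M] :
    Fitt.ideal R M 0 = FlatCA.fittingZero R M := by
  unfold Fitt.ideal FlatCA.fittingZero
  congr 1
  ext d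
  simp

/-- The Kähler different and formally étale localization. -/
theorem fitt_kaehler_map (A B C : Type u) [CommRing A] [CommRing B] [CommRing C] [Algebra A B]
    [Algebra B C] [Algebra A C] [IsScalarTower A B C] [Algebra.FormallyEtale B C]
    [Algebra.FiniteType A B] :
    Fitt.ideal C Ω[C⁄A] 0 = (Fitt.ideal B Ω[B⁄A] 0).map (algebraMap B C) := by
  rw [fitt_zero_eq, fitt_zero_eq, ← fittingZero_baseChange]
  exact (fittingZero_congr (KaehlerDifferential.tensorKaehlerEquivOfFormallyEtale A B C)).symm

end Fitt

/-- **Noether different = Kähler different** for flat quasi-finite local complete intersections. -/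
theorem noetherDifferent_eq_fitt {A B : Type u} [CommRing A] [CommRing B] [Algebra A B]
    [Module.Flat A B] [Algebra.QuasiFinite A B] (hlci : LCI.IsLCI A B) :
    Disc.noetherDifferent A B = Fitt.ideal B Ω[B⁄A] 0 := by
  have hft : Algebra.FiniteType A B := hlci.1
  apply ideal_eq_of_away
  intro q hq
  obtain ⟨g, hg, n, f, ⟨e⟩⟩ := S2237.result hlci q
  let C := MvPolynomial (Fin n) A ⧸ Ideal.span (Set.range f)
  let ψ : B →+* C := e.toRingEquiv.toRingHom.comp (algebraMap B (Localization.Away g))
  let _ : Algebra B C := ψ.toAlgebra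
  have hT : IsScalarTower A B C := IsScalarTower.of_algebraMap_eq' (by
    ext a
    change algebraMap A C a = e (algebraMap B (Localization.Away g) (algebraMap A B a))
    rw [← IsScalarTower.algebraMap_apply A B (Localization.Away g), e.commutes])
  let e' : Localization.Away g ≃ₐ[B] C :=
    AlgEquiv.ofRingEquiv (f := e.toRingEquiv) (fun b => rfl)
  have hloc : IsLocalization.Away g C := IsLocalization.isLocalization_of_algEquiv _ e'
  refine ⟨g, hg, C, inferInstance, inferInstance, hloc, ?_⟩
  have hqf : Algebra.QuasiFinite A C := by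
    exact Algebra.QuasiFinite.of_isLocalization (S := B) (Submonoid.powers g)
  have hfe : Algebra.FormallyEtale B C := Algebra.FormallyEtale.of_isLocalization (Submonoid.powers g)
  have hopen : IsOpenImmersion (Spec.map (CommRingCat.ofHom (algebraMap B C))) :=
    AlgebraicGeometry.IsOpenImmersion.of_isLocalization g
  have h1 : Disc.noetherDifferent A C = (Disc.noetherDifferent A B).map (algebraMap B C) :=
    S2220.result hopen
  have h2 := fitt_kaehler_map A B C
  have h3 := FittJac.fitt_zero_kaehler A C n f Ideal.Quotient.mk_surjective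
    (by rw [Ideal.Quotient.algebraMap_eq, Ideal.mk_ker])
  obtain ⟨δ, h4, h5⟩ := TateDual.exists_annDiag_gen f
  have h6 : Disc.noetherDifferent A C = Ideal.span {Algebra.TensorProduct.lmul' (S := C) A δ} := by
    have : Disc.noetherDifferent A C =
        Ideal.map (Algebra.TensorProduct.lmul' (S := C) A) (annDiag A C) := rfl
    rw [this, h4, Ideal.map_span, Set.image_singleton]
  rw [← h1, ← h2, h3, h6, h5]
  congr 2
  rw [RingHom.map_det]
  rfl

/-- Finite free case. -/
theorem differentSet_eq_fitt {A B : Type u} [CommRing A] [CommRing B] [Algebra A B]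
    [IsNoetherianRing A] [Module.Finite A B] [Module.Free A B] (hlci : LCI.IsLCI A B)
    (hgor : ∀ (p : Ideal A) [p.IsPrime], LocCoh.IsGorensteinRing (p.Fiber B)) :
    Disc.differentSet A B = (Fitt.ideal B Ω[B⁄A] 0 : Set B) := by
  have : Module.Invertible B (Disc.Omega A B) := S2217.result.1 hgor
  rw [S2221.result, noetherDifferent_eq_fitt hlci]

end K576.DiffFitt
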