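import Mathlib.RingTheory.Flat.Localization
import Mathlib.RingTheory.Flat.TorsionFree
import Mathlib.RingTheory.Ideal.AssociatedPrime.Finiteness
import Mathlib.RingTheory.Ideal.HasGoingUp
import Mathlib.RingTheory.Localization.BaseChange
import Mathlib.RingTheory.Localization.AtPrime.Basic
import Mathlib.RingTheory.Localization.FractionRing
import Mathlib.RingTheory.Localization.LocalizationLocalization

/-!
# Flatness over the total ring of fractions
-/

set_option autoImplicit false
universe u
open scoped TensorProduct

namespace K576.FlatFrac

theorem nzd_of_flat (A B : Type u) [CommRing A] [CommRing B] [IsNoetherianRing B]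
    [Algebra A B] (h3 : ∀ (q : Ideal B) [q.IsPrime], IsAssociatedPrime q B →
      Module.Flat A (Localization.AtPrime q)) :
    nonZeroDivisors A ≤ (nonZeroDivisors B).comap (algebraMap A B) := by
  intro a ha
  rw [Submonoid.mem_comap, mem_nonZeroDivisors_iff_right]
  intro x hx
  by_contra hx0
  obtain ⟨P, hP, hle⟩ := exists_le_isAssociatedPrime_of_isNoetherianRing B x hx0
  have := hP.isPrime
  have hfl := h3 P hP
  have hreg := Module.Flat.isSMulRegular_of_nonZeroDivisors (M := Localization.AtPrime P) ha
  have h0 : algebraMap B (Localization.AtPrime P) x = 0 := by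
    apply hreg
    simp only [smul_zero]
    rw [Algebra.smul_def, IsScalarTower.algebraMap_apply A B (Localization.AtPrime P), ← map_mul,
      mul_comm, hx, map_zero]
  rw [IsLocalization.map_eq_zero_iff P.primeCompl] at h0
  obtain ⟨s, hs⟩ := h0
  exact s.2 (hle (by simpa [Submodule.mem_colon_singleton] using hs))

section
variable (A B : Type u) [CommRing A] [CommRing B] [Algebra A B]

attribute [local instance] Algebra.TensorProduct.rightAlgebra

theorem flat_atPrime_of_disjoint (h2 : Module.Flat (FractionRing A) (FractionRing A ⊗[A] B))
    (q : Ideal B) [q.IsPrime] (hq : ∀ a ∈ nonZeroDivisors A, algebraMap A B a ∉ q) :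
    Module.Flat A (Localization.AtPrime q) := by
  let C := FractionRing A ⊗[A] B
  let S := Algebra.algebraMapSubmonoid B (nonZeroDivisors A)
  have hS : S ≤ q.primeCompl := by
    rintro _ ⟨a, ha, rfl⟩
    exact hq a ha
  have : IsLocalization S C := inferInstance
  let f : C →+* Localization.AtPrime q := IsLocalization.lift (M := S)
    (g := algebraMap B (Localization.AtPrime q))
    (fun y => IsLocalization.map_units (Localization.AtPrime q) ⟨y.1, hS y.2⟩)
  let : Algebra C (Localization.AtPrime q) := f.toAlgebra
  have hT : IsScalarTower B C (Localization.AtPrime q) := IsScalarTower.of_algebraMap_eq (fun x => by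
    change _ = f (algebraMap B C x)
    rw [IsLocalization.lift_eq])
  have hT' : IsScalarTower A C (Localization.AtPrime q) := IsScalarTower.of_algebraMap_eq (R := A) (S := C)
      (A := Localization.AtPrime q) (fun x => by
    have e1 : algebraMap A (Localization.AtPrime q) x = algebraMap B (Localization.AtPrime q) (algebraMap A B x) :=
      IsScalarTower.algebraMap_apply A B (Localization.AtPrime q) x
    have e2 : algebraMap A C x = algebraMap B C (algebraMap A B x) :=
      IsScalarTower.algebraMap_apply A B C x
    rw [e1, e2, ← IsScalarTower.algebraMap_apply B C (Localization.AtPrime q)])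
  have hloc : IsLocalization (q.primeCompl.map (algebraMap B C)) (Localization.AtPrime q) :=
    IsLocalization.isLocalization_of_submonoid_le C (Localization.AtPrime q) S q.primeCompl hS
  have : Module.Flat C (Localization.AtPrime q) := IsLocalization.flat _ (q.primeCompl.map (algebraMap B C))
  have : Module.Flat A C := Module.Flat.trans A (FractionRing A) C
  exact Module.Flat.trans A C (Localization.AtPrime q)

theorem flat_atPrime_all [IsNoetherianRing A] [IsNoetherianRing B]
    (h1 : nonZeroDivisors A ≤ (nonZeroDivisors B).comap (algebraMap A B))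
    (h2 : Module.Flat (FractionRing A) (FractionRing A ⊗[A] B)) :
    (∀ (q : Ideal B) [q.IsPrime], IsAssociatedPrime q B → Module.Flat A (Localization.AtPrime q)) ∧
    (∀ (q : Ideal B) [q.IsPrime], IsAssociatedPrime (q.comap (algebraMap A B)) A →
      Module.Flat A (Localization.AtPrime q)) := by
  refine ⟨fun q _ hq => flat_atPrime_of_disjoint A B h2 q ?_,
    fun q _ hq => flat_atPrime_of_disjoint A B h2 q ?_⟩
  · intro a ha haq
    have h := biUnion_associatedPrimes_eq_compl_nonZeroDivisors B
    have : algebraMap A B a ∈ ((nonZeroDivisors B : Set B))ᶜ := by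
      rw [← h]
      exact Set.mem_biUnion hq haq
    exact this (h1 ha)
  · intro a ha haq
    have h := biUnion_associatedPrimes_eq_compl_nonZeroDivisors A
    have : a ∈ ((nonZeroDivisors A : Set A))ᶜ := by
      rw [← h]
      exact Set.mem_biUnion hq (show a ∈ (q.comap (algebraMap A B) : Set A) from haq)
    exact this ha

theorem flat_fractionRing [IsNoetherianRing A] [Algebra.HasGoingUp A B]
    (h4 : ∀ (q : Ideal B) [q.IsPrime], IsAssociatedPrime (q.comap (algebraMap A B)) A →
      Module.Flat A (Localization.AtPrime q)) :
    Module.Flat (FractionRing A) (FractionRing A ⊗[A] B) := by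
  let C := FractionRing A ⊗[A] B
  let S := Algebra.algebraMapSubmonoid B (nonZeroDivisors A)
  have : IsLocalization S C := inferInstance
  rw [Module.flat_iff_of_isLocalization (R := A) (FractionRing A) (nonZeroDivisors A)]
  refine Module.flat_of_isLocalized_maximal (R := A) C C (fun P _ => Localization.AtPrime P)
    (fun P _ => Algebra.linearMap C (Localization.AtPrime P)) (fun P hP => ?_)
  let q : Ideal B := P.comap (algebraMap B C)
  have hq : Disjoint (S : Set B) q := (IsLocalization.isPrime_iff_isPrime_disjoint S C P).1 inferInstance |>.2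
  have hPq : q.map (algebraMap B C) = P := IsLocalization.map_under S C P
  have hA : (q.comap (algebraMap A B) : Set A) ⊆ ⋃ p ∈ associatedPrimes A A, (id p : Ideal A) := by
    have h := biUnion_associatedPrimes_eq_compl_nonZeroDivisors A
    simp only [id]
    rw [h]
    intro a ha ha'
    exact Set.disjoint_left.1 hq ⟨a, ha', rfl⟩ ha
  rw [Ideal.subset_union_prime_finite (associatedPrimes.finite A A) (f := id) ⊥ ⊥
    (fun i hi _ _ => hi.isPrime)] at hA
  obtain ⟨p, hp, hle⟩ := hA
  have := hp.isPrime
  simp only [id] at hle
  obtain ⟨Q, hqQ, hQ, hQp⟩ := Ideal.exists_ideal_ge_liesOver_of_le (R := A) (p := q.comap (algebraMap A B))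
    (q := p) q hle
  have hQS : Disjoint (S : Set B) Q := by
    rw [Set.disjoint_left]
    rintro _ ⟨a, ha, rfl⟩ haQ
    have hap : a ∈ p := by
      rw [hQp.over]
      exact haQ
    have h := biUnion_associatedPrimes_eq_compl_nonZeroDivisors A
    have : a ∈ ((nonZeroDivisors A : Set A))ᶜ := by
      rw [← h]
      exact Set.mem_biUnion hp hap
    exact this ha
  have hQC : (Q.map (algebraMap B C)).IsPrime := IsLocalization.isPrime_of_isPrime_disjoint S C Q hQ hQS
  have hPQ : P = Q.map (algebraMap B C) := hP.eq_of_le hQC.ne_top (hPq ▸ Ideal.map_mono hqQ)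
  have hqQ' : q = Q := by
    change P.comap (algebraMap B C) = Q
    rw [hPQ]
    exact IsLocalization.under_map_of_isPrime_disjoint S C hQ hQS
  have hass : IsAssociatedPrime (q.comap (algebraMap A B)) A := by
    rw [hqQ']
    have : p = Q.comap (algebraMap A B) := hQp.over
    rw [← this]
    exact hp
  have h4' := h4 q hass
  have hloc : IsLocalization.AtPrime (Localization.AtPrime P) q :=
    IsLocalization.isLocalization_isLocalization_atPrime_isLocalization S (Localization.AtPrime P) P
  let e : Localization.AtPrime q ≃ₐ[B] Localization.AtPrime P :=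
    IsLocalization.algEquiv q.primeCompl _ _
  exact Module.Flat.of_linearEquiv (e.toLinearEquiv.restrictScalars A).symm

end

end K576.FlatFrac
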