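import Groth.Agent.QFDual.K577.Fac
import Groth.Agent.QFDual.K577.Basic
import Mathlib.RingTheory.Flat.Basic
import Mathlib.LinearAlgebra.FreeModule.Finite.Matrix

/-!
# Flatness of `B ⊗[B'] Hom_A(B', A)` over `A`
-/

set_option autoImplicit false
universe u
open TensorProduct Disc

namespace K576.FlatOm

/-- Injectivity half of `K577.Fac.baseChange_bijective_of_kills`. -/
theorem baseChange_injective_of_kills {R S : Type*} [CommRing R] [CommRing S] [Algebra R S]
    [Module.Flat R S] {M N : Type*} [AddCommGroup M] [AddCommGroup N] [Module R M] [Module R N]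
    (f : M →ₗ[R] N) (G : Set R)
    (hG : Ideal.span (algebraMap R S '' G) = ⊤)
    (hker : ∀ s ∈ G, ∀ x, f x = 0 → s • x = 0) : Function.Injective (f.baseChange S) := by
  refine (injective_iff_map_eq_zero _).2 fun z hz => ?_
  have hex : Function.Exact (LinearMap.ker f).subtype f := LinearMap.exact_subtype_ker_map f
  have hex2 := Module.Flat.lTensor_exact S hex
  obtain ⟨w, rfl⟩ := (hex2 z).1 hz
  have hw : w = 0 := by
    apply K577.Fac.eq_zero_of_span (S := S) _ hG
    rintro _ ⟨s, hs, rfl⟩
    clear hz
    induction w with
    | zero => simp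
    | add x y hx hy => rw [smul_add, hx, hy, add_zero]
    | tmul a x =>
      rw [algebraMap_smul, ← TensorProduct.tmul_smul]
      have : s • x = 0 := Subtype.ext (hker s hs x x.2)
      rw [this, TensorProduct.tmul_zero]
  rw [hw, map_zero]

variable {A B' B W : Type u} [CommRing A] [CommRing B'] [CommRing B]
  [Algebra A B'] [Algebra B' B] [Algebra A B] [IsScalarTower A B' B]
  [AddCommGroup W] [Module A W] [Module B' W] [IsScalarTower A B' W]

/-- If multiplication by each `s ∈ G` on `W` factors `A`-linearly through a flat module, and `G`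
generates the unit ideal of the flat `B'`-algebra `B`, then `B ⊗[B'] W` is flat over `A`. -/
theorem flat_baseChange_of_factor [Module.Flat B' B] (G : Set B')
    (hG : Ideal.span (algebraMap B' B '' G) = ⊤)
    (h : ∀ s ∈ G, ∃ (F : Type u) (_ : AddCommGroup F) (_ : Module A F) (_ : Module.Flat A F)
      (a : W →ₗ[A] F) (b : F →ₗ[A] W), ∀ x, b (a x) = s • x) :
    Module.Flat A (B ⊗[B'] W) := by
  rw [Module.Flat.iff_lTensor_preserves_injective_linearMap]
  intro N N' _ _ _ _ f hf
  let g : W ⊗[A] N →ₗ[B'] W ⊗[A] N' := AlgebraTensorModule.lTensor B' W f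
  have hg : Function.Injective (g.baseChange B) := by
    apply baseChange_injective_of_kills g G hG
    intro s hs x hx
    obtain ⟨F, _, _, _, a, b, hab⟩ := h s hs
    have h1 : ∀ y : W ⊗[A] N, s • y = b.rTensor N (a.rTensor N y) := by
      intro y
      induction y with
      | zero => simp
      | add y z hy hz => rw [smul_add, map_add, map_add, hy, hz]
      | tmul w n =>
        rw [LinearMap.rTensor_tmul, LinearMap.rTensor_tmul, hab, TensorProduct.smul_tmul']
    have h2 : f.lTensor F (a.rTensor N x) = 0 := by
      have h3 : f.lTensor F (a.rTensor N x) = a.rTensor N' (f.lTensor W x) := by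
        rw [← LinearMap.comp_apply, ← LinearMap.comp_apply, LinearMap.lTensor_comp_rTensor,
          LinearMap.rTensor_comp_lTensor]
      have h4 : f.lTensor W x = g x := rfl
      rw [h3, h4, hx, map_zero]
    have h5 : a.rTensor N x = 0 :=
      (injective_iff_map_eq_zero _).1 (Module.Flat.lTensor_preserves_injective_linearMap (M := F) f hf)
        _ h2
    rw [h1, h5, map_zero]
  have key : ∀ z : (B ⊗[B'] W) ⊗[A] N,
      AlgebraTensorModule.assoc A B' B B W N' (f.lTensor (B ⊗[B'] W) z) =
        g.baseChange B (AlgebraTensorModule.assoc A B' B B W N z) := by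
    intro z
    induction z with
    | zero => simp
    | add x y hx hy => rw [map_add, map_add, map_add, map_add, hx, hy]
    | tmul w n =>
      induction w with
      | zero => simp
      | add x y hx hy =>
        rw [TensorProduct.add_tmul, map_add, map_add, map_add, map_add, hx, hy]
      | tmul b w => rfl
  intro x y hxy
  apply (AlgebraTensorModule.assoc A B' B B W N).injective
  apply hg
  rw [← key, ← key, hxy]

attribute [local instance] K577.QFBasic.omegaModuleA K577.QFBasic.omega_isScalarTower

theorem flat_omega [Module.Flat A B] [Module.FinitePresentation A B']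
    (h : AlgebraicGeometry.IsOpenImmersion
      (AlgebraicGeometry.Spec.map (CommRingCat.ofHom (algebraMap B' B)))) :
    Module.Flat A (B ⊗[B'] Omega A B') := by
  have hfl : Module.Flat B' B := K577.Fac.flat_of_isOpenImmersion h
  have htop := K577.Fac.map_facIdeal_eq_top (A := A) h
  refine flat_baseChange_of_factor (K577.Fac.facIdeal A B' : Set B') htop ?_
  rintro s ⟨n, u, v, huv⟩
  refine ⟨((Fin n → A) →ₗ[A] A), inferInstance, inferInstance, inferInstance,
    (LinearMap.lcomp A A v) ∘ₗ (K577.QFBasic.omegaEquivA A B').toLinearMap,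
    (K577.QFBasic.omegaEquivA A B').symm.toLinearMap ∘ₗ LinearMap.lcomp A A u, ?_⟩
  intro φ
  apply Omega.ext
  ext x
  change φ.toLinearMap (v (u x)) = φ.toLinearMap (s * x)
  rw [huv]

end K576.FlatOm
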