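import Groth.Agent.LoccohB.GorLci
import Groth.Agent.Models2.CIFlat2

/-!
# Quasi-finite complete intersections over a field are Gorenstein
-/

set_option autoImplicit false
universe u
open scoped TensorProduct
open RingTheory.Sequence

namespace K576.GorCI

open Groth.Agent.Models2 Groth.Agent.LoccohB LocCoh

theorem isWeaklyRegular {A : Type u} [CommRing A] {n : ℕ} (f : Fin n → MvPolynomial (Fin n) A)
    [Algebra.QuasiFinite A (MvPolynomial (Fin n) A ⧸ Ideal.span (Set.range f))]
    (p : Ideal (MvPolynomial (Fin n) A)) [p.IsPrime] (hle : Ideal.span (Set.range f) ≤ p) :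
    IsWeaklyRegular (Localization.AtPrime p)
      (List.ofFn fun i => algebraMap _ (Localization.AtPrime p) (f i)) := by
  let q' := p.map (Ideal.Quotient.mk (Ideal.span (Set.range f)))
  have hker : RingHom.ker (Ideal.Quotient.mk (Ideal.span (Set.range f))) ≤ p := by
    rw [Ideal.mk_ker]; exact hle
  have hq' : q'.IsPrime :=
    Ideal.map_isPrime_of_surjective Ideal.Quotient.mk_surjective hker
  have hcm : p = q'.comap (Ideal.Quotient.mk (Ideal.span (Set.range f))) := by
    rw [Ideal.comap_map_of_surjective' _ Ideal.Quotient.mk_surjective, sup_eq_left.2 hker]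
  exact (CIFlat2.main f q' p hcm).1

theorem isWeaklyRegular' {A : Type u} [CommRing A] {n : ℕ} (f : Fin n → MvPolynomial (Fin n) A)
    [Algebra.QuasiFinite A (MvPolynomial (Fin n) A ⧸ Ideal.span (Set.range f))]
    (p : Ideal (MvPolynomial (Fin n) A)) [p.IsPrime] (hle : Ideal.span (Set.range f) ≤ p) :
    IsWeaklyRegular (Localization.AtPrime p) (List.ofFn f) := by
  have h1 := isWeaklyRegular f p hle
  have h2 : (List.ofFn fun i => algebraMap _ (Localization.AtPrime p) (f i)) =
      (List.ofFn f).map (algebraMap _ (Localization.AtPrime p)) := by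
    rw [List.map_ofFn]
    rfl
  rw [h2, isWeaklyRegular_map_algebraMap_iff] at h1
  exact h1

/-- A quasi-finite complete intersection over a field is Gorenstein. -/
theorem isGorensteinRing_ci {k : Type u} [Field k] {n : ℕ} (f : Fin n → MvPolynomial (Fin n) k)
    [Algebra.QuasiFinite k (MvPolynomial (Fin n) k ⧸ Ideal.span (Set.range f))] :
    IsGorensteinRing (MvPolynomial (Fin n) k ⧸ Ideal.span (Set.range f)) := by
  have hP : IsGorensteinRing (MvPolynomial (Fin n) k) :=
    GorBasic.isGorensteinRing_mvPolynomial (GorBasic.isGorensteinRing_of_field k) n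
  refine GorBasic.isGorensteinRing_iff.2 ⟨inferInstance, fun q hq => ?_⟩
  apply GorLci.FID_localization_of_surjective (Ideal.Quotient.mk (Ideal.span (Set.range f)))
    Ideal.Quotient.mk_surjective q
  have hle : Ideal.span (Set.range f) ≤ q.comap (Ideal.Quotient.mk (Ideal.span (Set.range f))) := by
    conv_lhs => rw [← Ideal.mk_ker (I := Ideal.span (Set.range f))]
    exact Ideal.ker_le_comap _
  have hreg := isWeaklyRegular f (q.comap (Ideal.Quotient.mk (Ideal.span (Set.range f)))) hle
  have h1 := ((GorBasic.isGorensteinRing_iff.1 hP).2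
    (q.comap (Ideal.Quotient.mk (Ideal.span (Set.range f))))).quotient_ofList _ hreg
  refine h1.of_ringEquiv (Ideal.quotEquivOfEq ?_)
  rw [Ideal.mk_ker, Ideal.map_span]
  unfold Ideal.ofList
  congr 1
  ext x
  rw [Set.mem_image]
  constructor
  · intro hx
    obtain ⟨i, rfl⟩ := List.mem_ofFn.1 hx
    exact ⟨f i, ⟨i, rfl⟩, rfl⟩
  · rintro ⟨_, ⟨i, rfl⟩, rfl⟩
    exact List.mem_ofFn.2 ⟨i, rfl⟩

/-- The fibres of a finite complete intersection are Gorenstein. -/
theorem isGorensteinRing_fiber {A : Type u} [CommRing A] {n : ℕ} (f : Fin n → MvPolynomial (Fin n) A)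
    [Module.Finite A (MvPolynomial (Fin n) A ⧸ Ideal.span (Set.range f))]
    (p : Ideal A) [p.IsPrime] :
    IsGorensteinRing (p.Fiber (MvPolynomial (Fin n) A ⧸ Ideal.span (Set.range f))) := by
  let κ := p.ResidueField
  let f' : Fin n → MvPolynomial (Fin n) κ := fun i => MvPolynomial.map (algebraMap A κ) (f i)
  let e : κ ⊗[A] (MvPolynomial (Fin n) A ⧸ Ideal.span (Set.range f)) ≃ₐ[κ]
    MvPolynomial (Fin n) κ ⧸ Ideal.span (Set.range f') := CIFlat2.quotEquiv f f' (fun i => rfl)
  have hfin : Module.Finite κ (MvPolynomial (Fin n) κ ⧸ Ideal.span (Set.range f')) :=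
    Module.Finite.equiv e.toLinearEquiv
  have h := isGorensteinRing_ci f'
  exact GorBasic.isGorensteinRing_of_ringEquiv e.symm.toRingEquiv h

end K576.GorCI
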