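import Mathlib.AlgebraicGeometry.Morphisms.Flat
import Mathlib.AlgebraicGeometry.Morphisms.OpenImmersion
import Mathlib.Algebra.Category.Ring.Epi
import Mathlib.Algebra.Category.Ring.Constructions
import Mathlib.RingTheory.TensorProduct.Finite

/-!
# Open immersions of affine schemes: flat epimorphisms, intermediate subrings
-/

set_option autoImplicit false
universe u
open AlgebraicGeometry
open scoped TensorProduct

namespace K576.OpenImm

theorem flat_isEpi {B' B : Type u} [CommRing B'] [CommRing B] [Algebra B' B]
    (h : IsOpenImmersion (Spec.map (CommRingCat.ofHom (algebraMap B' B)))) :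
    Module.Flat B' B ∧ Algebra.IsEpi B' B := by
  have hflat : AlgebraicGeometry.Flat (Spec.map (CommRingCat.ofHom (algebraMap B' B))) :=
    inferInstance
  rw [AlgebraicGeometry.Flat.SpecMap_iff] at hflat
  have : Module.Flat B' B := RingHom.flat_algebraMap_iff.1 hflat
  have hmono : CategoryTheory.Mono
      (Scheme.Spec.map (CommRingCat.ofHom (algebraMap B' B)).op) :=
    inferInstanceAs (CategoryTheory.Mono (Spec.map (CommRingCat.ofHom (algebraMap B' B))))
  have hmono' := Scheme.Spec.mono_of_mono_map hmono
  have hepi : CategoryTheory.Epi (CommRingCat.ofHom (algebraMap B' B)) :=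
    CategoryTheory.unop_epi_of_mono (CommRingCat.ofHom (algebraMap B' B)).op
  exact ⟨this, CommRingCat.epi_iff_epi.1 hepi⟩

/-- If `B' → B` is a flat epimorphism and `C → B` is injective, then `B ⊗[B'] C = B`. -/
theorem isPushout_of_injective (B' B C : Type u) [CommRing B'] [CommRing B] [CommRing C]
    [Algebra B' B] [Algebra B' C] [Algebra C B] [IsScalarTower B' C B]
    [Module.Flat B' B] (he : Algebra.IsEpi B' B) (hC : Function.Injective (algebraMap C B)) :
    Algebra.IsPushout B' B C B := by
  have hinj : Function.Injective (Algebra.TensorProduct.lift (AlgHom.id B B)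
      (IsScalarTower.toAlgHom B' C B) (fun _ _ => Commute.all _ _)) := by
    have h1 : Function.Injective (LinearMap.lTensor B (IsScalarTower.toAlgHom B' C B).toLinearMap) :=
      Module.Flat.lTensor_preserves_injective_linearMap _ hC
    have h2 : Function.Injective (Algebra.TensorProduct.lmul' (S := B) B') := by
      have h0 : ∀ x, Algebra.TensorProduct.lmul' (S := B) B' x =
          TensorProduct.lift (LinearMap.mul B' B) x := by
        intro x
        induction x with
        | zero => simp
        | add x y hx hy => rw [map_add, map_add, hx, hy]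
        | tmul b c => simp
      intro x y hxy
      rw [h0, h0] at hxy
      exact he.injective_lift_mul hxy
    have h3 : ∀ x, Algebra.TensorProduct.lift (AlgHom.id B B)
      (IsScalarTower.toAlgHom B' C B) (fun _ _ => Commute.all _ _) x =
        Algebra.TensorProduct.lmul' (S := B) B'
          (LinearMap.lTensor B (IsScalarTower.toAlgHom B' C B).toLinearMap x) := by
      intro x
      induction x with
      | zero => simp
      | add x y hx hy => rw [map_add, map_add, map_add, hx, hy]
      | tmul b c => simp
    intro x y hxy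
    rw [h3, h3] at hxy
    exact h1 (h2 hxy)
  have hsurj : Function.Surjective (Algebra.TensorProduct.lift (AlgHom.id B B)
      (IsScalarTower.toAlgHom B' C B) (fun _ _ => Commute.all _ _)) := fun b =>
    ⟨b ⊗ₜ 1, by simp⟩
  refine ⟨IsBaseChange.of_equiv (LinearEquiv.ofBijective (Algebra.TensorProduct.lift (AlgHom.id B B)
      (IsScalarTower.toAlgHom B' C B) (fun _ _ => Commute.all _ _)).toLinearMap ⟨hinj, hsurj⟩) ?_⟩
  intro x
  change Algebra.TensorProduct.lift (AlgHom.id B B)
      (IsScalarTower.toAlgHom B' C B) (fun _ _ => Commute.all _ _) (1 ⊗ₜ[B'] x) = _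
  simp

theorem isOpenImmersion_of_injective (B' B C : Type u) [CommRing B'] [CommRing B] [CommRing C]
    [Algebra B' B] [Algebra B' C] [Algebra C B] [IsScalarTower B' C B]
    (h : IsOpenImmersion (Spec.map (CommRingCat.ofHom (algebraMap B' B))))
    (hC : Function.Injective (algebraMap C B)) :
    IsOpenImmersion (Spec.map (CommRingCat.ofHom (algebraMap C B))) := by
  obtain ⟨h1, h2⟩ := flat_isEpi h
  have hp := isPushout_of_injective B' B C h2 hC
  have hp' := CommRingCat.isPushout_of_isPushout B' B C B
  have hpb := isPullback_SpecMap_of_isPushout _ _ _ _ hp'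
  exact CategoryTheory.MorphismProperty.of_isPullback (P := @IsOpenImmersion) hpb h

theorem exists_finite_subalgebra (A B B' B'' : Type u) [CommRing A] [CommRing B] [CommRing B']
    [CommRing B''] [Algebra A B] [Algebra A B'] [Algebra A B''] [Algebra B' B] [Algebra B'' B]
    [IsScalarTower A B' B] [IsScalarTower A B'' B] [Module.Finite A B'] [Module.Finite A B'']
    (h' : IsOpenImmersion (Spec.map (CommRingCat.ofHom (algebraMap B' B)))) :
    ∃ C : Subalgebra A B, Module.Finite A C ∧ Set.range (algebraMap B' B) ⊆ (C : Set B) ∧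
      Set.range (algebraMap B'' B) ⊆ (C : Set B) ∧
        IsOpenImmersion (Spec.map (CommRingCat.ofHom C.val.toRingHom)) := by
  let E1 := (IsScalarTower.toAlgHom A B' B).range
  let E2 := (IsScalarTower.toAlgHom A B'' B).range
  have : Module.Finite A E1 := Module.Finite.of_surjective
    (IsScalarTower.toAlgHom A B' B).rangeRestrict.toLinearMap
    (AlgHom.rangeRestrict_surjective _)
  have : Module.Finite A E2 := Module.Finite.of_surjective
    (IsScalarTower.toAlgHom A B'' B).rangeRestrict.toLinearMap
    (AlgHom.rangeRestrict_surjective _)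
  have h1 : Set.range (algebraMap B' B) ⊆ (E1 ⊔ E2 : Subalgebra A B) := by
    rintro _ ⟨x, rfl⟩
    exact (le_sup_left : E1 ≤ E1 ⊔ E2) ⟨x, rfl⟩
  refine ⟨E1 ⊔ E2, Subalgebra.finite_sup E1 E2, h1, ?_, ?_⟩
  · rintro _ ⟨x, rfl⟩
    exact (le_sup_right : E2 ≤ E1 ⊔ E2) ⟨x, rfl⟩
  · let g : B' →+* (E1 ⊔ E2 : Subalgebra A B) :=
      (algebraMap B' B).codRestrict (E1 ⊔ E2 : Subalgebra A B) (fun x => h1 ⟨x, rfl⟩)
    let _ : Algebra B' (E1 ⊔ E2 : Subalgebra A B) := g.toAlgebra
    have : IsScalarTower B' (E1 ⊔ E2 : Subalgebra A B) B :=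
      IsScalarTower.of_algebraMap_eq (fun x => rfl)
    exact isOpenImmersion_of_injective B' B (E1 ⊔ E2 : Subalgebra A B) h' Subtype.val_injective

end K576.OpenImm
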