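import Groth.Agent.Disc.K576.GorCI
import Groth.Agent.S2217
import Groth.Agent.Models2.DiscDual
import Groth.Agent.Models2.TateLocal
import Groth.Agent.Models2.TateAnn
import Groth.Agent.Models2.CIJac

/-!
# Tate duality: `B ≃ Hom_A(B, A)` for a finite free complete intersection, sending the Jacobian to the trace
-/

set_option autoImplicit false
universe u
open scoped TensorProduct
open Disc

namespace K576.TateDual

open Groth.Agent Groth.Agent.Models2 Groth.Agent.Models2.DiscDual

section General

variable {A B : Type u} [CommRing A] [CommRing B] [Algebra A B] [Module.Finite A B]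
  [Module.Free A B] [Module.Invertible B (Omega A B)]

/-- If the annihilator of the diagonal is generated by `δ` and `ω` is invertible then pairing with `δ`
is an isomorphism `ω ≃ B`, sending the trace to `μ(δ)`. -/
theorem exists_equiv_of_annDiag (δ : B ⊗[A] B) (hδ : annDiag A B = Ideal.span {δ}) :
    ∃ e : B ≃ₗ[B] Omega A B, e (Algebra.TensorProduct.lmul' (S := B) A δ) = Omega.trace A B := by
  have hδm : δ ∈ annDiag A B := by rw [hδ]; exact Ideal.mem_span_singleton_self _
  let Φ : Omega A B →ₗ[B] B := toHom δ hδm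
  -- every linear form is a multiple of `Φ`
  have hmul : ∀ φ : Omega A B →ₗ[B] B, ∃ y : B, φ = y • Φ := by
    intro φ
    obtain ⟨ξ, hξ, h⟩ := exists_of_hom φ
    rw [hδ] at hξ
    obtain ⟨z, rfl⟩ := Ideal.mem_span_singleton'.1 hξ
    refine ⟨Algebra.TensorProduct.lmul' (S := B) A z, LinearMap.ext fun l => ?_⟩
    rw [h l, LinearMap.smul_apply, toHom_apply, smul_eq_mul]
    clear h
    induction z using TensorProduct.induction_on with
    | zero => simp
    | add x y hx hy =>
      have hx' := hx (Ideal.mem_span_singleton'.2 ⟨x, rfl⟩)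
      have hy' := hy (Ideal.mem_span_singleton'.2 ⟨y, rfl⟩)
      rw [add_mul, map_add, map_add, add_mul, hx', hy']
    | tmul b c =>
      have h1 : (b ⊗ₜ[A] c) * δ = ((1 : B) ⊗ₜ[A] (b * c)) * δ := by
        have h2 : (b ⊗ₜ[A] c) = ((1 : B) ⊗ₜ[A] c) * (b ⊗ₜ[A] (1 : B)) := by simp
        rw [h2, mul_assoc, (mem_annDiag_iff δ).1 hδm b, ← mul_assoc]
        congr 1
        simp [mul_comm]
      rw [h1, pair_right_mul, Algebra.TensorProduct.lmul'_apply_tmul]
  obtain ⟨s, hs⟩ := exists_sum_eq_one (B := B) (Omega A B)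
  choose y hy using hmul
  have hm : Φ (∑ p ∈ s, y p.1 • p.2) = 1 := by
    rw [map_sum, ← hs]
    refine Finset.sum_congr rfl fun p _ => ?_
    rw [map_smul]
    conv_rhs => rw [hy p.1]
    rfl
  have hsurj : Function.Surjective Φ := fun b => ⟨b • ∑ p ∈ s, y p.1 • p.2, by
    rw [map_smul, hm, smul_eq_mul, mul_one]⟩
  have hinj : Function.Injective Φ := by
    rw [injective_iff_map_eq_zero]
    intro x hx
    have h := invertible_swap Φ x (∑ p ∈ s, y p.1 • p.2)
    rw [hx, hm, zero_smul, one_smul] at h
    exact h.symm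
  let e : Omega A B ≃ₗ[B] B := LinearEquiv.ofBijective Φ ⟨hinj, hsurj⟩
  refine ⟨e.symm, ?_⟩
  rw [LinearEquiv.symm_apply_eq]
  change _ = pair (Omega.trace A B) δ
  rw [pair_trace_eq δ hδm]

end General

section CI

variable {A : Type u} [CommRing A] {n : ℕ} (f : Fin n → MvPolynomial (Fin n) A)

local notation "P" => MvPolynomial (Fin n) A
local notation "BB" => (MvPolynomial (Fin n) A ⧸ Ideal.span (Set.range f))

/-- The annihilator of the diagonal for a quasi-finite complete intersection. -/
theorem exists_annDiag_gen [Algebra.QuasiFinite A BB] :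
    ∃ δ : BB ⊗[A] BB, annDiag A BB = Ideal.span {δ} ∧
      Algebra.TensorProduct.lmul' (S := BB) A δ =
        Ideal.Quotient.mk (Ideal.span (Set.range f))
          (Matrix.det (Matrix.of fun i j : Fin n => MvPolynomial.pderiv j (f i))) := by
  have hflat : Module.Flat A BB := CIFlat2.flat_of_quasiFinite f
  let φ : P →ₐ[A] BB := Ideal.Quotient.mkₐ A _
  obtain ⟨c, hc, hc'⟩ := CIJac.exists_matrix φ f (fun i =>
    Ideal.Quotient.eq_zero_iff_mem.2 (Ideal.subset_span ⟨i, rfl⟩))
  have h1 := TateAnn.annihilator_eq (A := A) f (Ideal.span (Set.range f)) rfl (CIJac.gen φ)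
    (CIJac.span_gen φ) c hc (fun y hy => by
      have hfl : Module.Flat P (P ⊗[A] BB) := inferInstance
      exact TateLocal.tate_local f (fun p _ hp => GorCI.isWeaklyRegular' f p hp)
        (CIJac.gen φ) c hc y hy)
  refine ⟨_, h1, ?_⟩
  have h2 : ∀ z, Algebra.TensorProduct.lmul' (S := BB) A
      (Algebra.TensorProduct.map (Ideal.Quotient.mkₐ A (Ideal.span (Set.range f)))
        (AlgHom.id A BB) z) = CIJac.mu φ z := by
    intro z
    have : (Algebra.TensorProduct.lmul' (S := BB) A).comp
        (Algebra.TensorProduct.map (Ideal.Quotient.mkₐ A (Ideal.span (Set.range f)))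
        (AlgHom.id A BB)) = CIJac.mu φ := by
      ext <;> simp [CIJac.mu, φ]
    exact congr($this z)
  rw [h2, AlgHom.map_det, RingHom.map_det]
  congr 1
  ext i j
  exact hc' i j

/-- `ω` is invertible for a finite free complete intersection. -/
theorem invertible_omega [IsNoetherianRing A] [Module.Finite A BB] [Module.Free A BB] :
    Module.Invertible BB (Omega A BB) :=
  S2217.result.1 (fun p _ => GorCI.isGorensteinRing_fiber f p)

/-- **Tate duality**. -/
theorem exists_equiv [IsNoetherianRing A] [Module.Finite A BB] [Module.Free A BB] :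
    ∃ e : BB ≃ₗ[BB] Omega A BB,
      e (Ideal.Quotient.mk (Ideal.span (Set.range f))
        (Matrix.det (Matrix.of fun i j : Fin n => MvPolynomial.pderiv j (f i)))) =
          Omega.trace A BB := by
  have := invertible_omega f
  obtain ⟨δ, h1, h2⟩ := exists_annDiag_gen f
  rw [← h2]
  exact exists_equiv_of_annDiag δ h1

end CI

end K576.TateDual
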